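import Mathlib

set_option autoImplicit false
universe u

namespace Groth.Agent.Subreg8
open Finset Matrix

variable {O : Type u} [CommRing O]

def zb (Y : ℕ → ℕ → O) (a b : ℕ) : O := ∑ t ∈ range (min a (b + 1)), Y (a - 1 - t) (b - t)

theorem zb_succ (Y : ℕ → ℕ → O) (i j : ℕ) (hj : 1 ≤ j) : zb Y (i + 1) j = Y i j + zb Y i (j - 1) := by
  unfold zb
  rw [show min (i + 1) (j + 1) = min i j + 1 by omega, sum_range_succ', show j - 1 + 1 = j by omega, add_comm]
  congr 1
  refine sum_congr rfl fun t _ => ?_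
  congr 1 <;> omega

def Z (n : ℕ) (Y : ℕ → ℕ → O) (a b : ℕ) : O :=
  if a < n ∧ b < n then zb Y a b
  else if a = n ∧ b + 1 < n then -Y n (b + 1)
  else if b = n ∧ 1 ≤ a ∧ a < n then Y (a - 1) n
  else if a = n ∧ b = n then -∑ i ∈ range n, zb Y i i
  else 0

theorem trace_Z (n : ℕ) (Y : ℕ → ℕ → O) : ∑ i ∈ range (n + 1), Z n Y i i = 0 := by
  rw [sum_range_succ]
  have h : ∀ i ∈ range n, Z n Y i i = zb Y i i := fun i hi => if_pos ⟨mem_range.mp hi, mem_range.mp hi⟩
  rw [sum_congr rfl h]
  simp [Z]

theorem Z_spec (n : ℕ) (hn : 1 ≤ n) (Y : ℕ → ℕ → O) (hT : ∀ m < n, ∑ i ∈ range (n - m), Y (i + m) i = 0)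
    (ha : Y n 0 = 0) (hb : Y (n - 1) n = 0) (hc : Y n n = 0) (i j : ℕ) (hi : i ≤ n) (hj : j ≤ n) :
    (if i + 1 < n then Z n Y (i + 1) j else 0) - (if 1 ≤ j ∧ j < n then Z n Y i (j - 1) else 0) = Y i j := by
  rcases Nat.lt_or_ge i n with hin | hin <;> rcases Nat.lt_or_ge j n with hjn | hjn
  · have e1 : (if i + 1 < n then Z n Y (i + 1) j else 0) = if i + 1 < n then zb Y (i + 1) j else 0 := by
      split_ifs with h
      · exact if_pos ⟨h, hjn⟩
      · rfl
    rw [e1]
    rcases Nat.eq_zero_or_pos j with rfl | hj1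
    · rw [if_neg (c := 1 ≤ 0 ∧ 0 < n) (by omega), sub_zero]
      split_ifs with h
      · simp [zb, show min (i + 1) 1 = 1 by omega]
      · have := hT (n - 1) (by omega)
        rw [show n - (n - 1) = 1 by omega] at this
        simp at this
        rw [show i = n - 1 by omega, this]
    · rw [if_pos (c := 1 ≤ j ∧ j < n) ⟨hj1, hjn⟩, show Z n Y i (j - 1) = zb Y i (j - 1) from if_pos ⟨hin, by omega⟩]
      split_ifs with h
      · rw [zb_succ Y i j hj1]; ring
      · obtain rfl : i = n - 1 := by omega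
        have h0 := hT (n - 1 - j) (by omega)
        rw [show n - (n - 1 - j) = j + 1 by omega, sum_range_succ, show j + (n - 1 - j) = n - 1 by omega] at h0
        have h1 : zb Y (n - 1) (j - 1) = ∑ x ∈ range j, Y (x + (n - 1 - j)) x := by
          rw [← sum_range_reflect]
          unfold zb
          rw [show min (n - 1) (j - 1 + 1) = j by omega]
          refine sum_congr rfl fun t ht => ?_
          have := mem_range.mp ht
          congr 1 <;> omega
        linear_combination (-1 : O) * h1 - h0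
  · obtain rfl : j = n := by omega
    rw [if_neg (c := 1 ≤ j ∧ j < j) (by omega), sub_zero]
    split_ifs with h
    · simp [Z, h]
    · rw [show i = j - 1 by omega, hb]
  · obtain rfl : i = n := by omega
    rw [if_neg (c := i + 1 < i) (by omega), zero_sub]
    rcases Nat.eq_zero_or_pos j with rfl | hj1
    · simp [ha]
    · rw [if_pos ⟨hj1, hjn⟩]
      simp [Z, show j - 1 + 1 = j by omega, hjn]
  · obtain rfl : i = n := by omega
    obtain rfl : j = i := by omega
    rw [hc]; simp

def Yof {n : ℕ} (y : Matrix (Fin (n + 1)) (Fin (n + 1)) O) (a b : ℕ) : O :=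
  if h : a < n + 1 ∧ b < n + 1 then y ⟨a, h.1⟩ ⟨b, h.2⟩ else 0

theorem Yof_val {n : ℕ} (y : Matrix (Fin (n + 1)) (Fin (n + 1)) O) (i j : Fin (n + 1)) : Yof y i j = y i j :=
  dif_pos ⟨i.2, j.2⟩

theorem coker_free [Nontrivial O] (n : ℕ) (hn : 1 ≤ n)
    (x : LieAlgebra.SpecialLinear.sl (Fin (n + 1)) O)
    (hx : ∀ i j : Fin (n + 1), (x : Matrix (Fin (n + 1)) (Fin (n + 1)) O) i j =
      if j.val = i.val + 1 ∧ j.val < n then 1 else 0) :
    Module.Free O (LieAlgebra.SpecialLinear.sl (Fin (n + 1)) O ⧸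
        LinearMap.range (LieAlgebra.ad O (LieAlgebra.SpecialLinear.sl (Fin (n + 1)) O) x)) ∧
      Module.finrank O (LieAlgebra.SpecialLinear.sl (Fin (n + 1)) O ⧸
        LinearMap.range (LieAlgebra.ad O (LieAlgebra.SpecialLinear.sl (Fin (n + 1)) O) x)) = n + 2 := by
  classical
  let Φ : LieAlgebra.SpecialLinear.sl (Fin (n + 1)) O →ₗ[O] ((Fin n → O) × O × O) :=
    { toFun := fun y => (fun m => ∑ i ∈ range (n - m), Yof y.1 (i + m) i, Yof y.1 n 0, Yof y.1 (n - 1) n)
      map_add' := fun a b => by
        have h : ∀ p q, Yof (a.1 + b.1) p q = Yof a.1 p q + Yof b.1 p q := fun p q => by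
          unfold Yof; split_ifs <;> simp
        simp [h, sum_add_distrib, Prod.ext_iff, funext_iff]
      map_smul' := fun r a => by
        have h : ∀ p q, Yof (r • a.1) p q = r * Yof a.1 p q := fun p q => by
          unfold Yof; split_ifs <;> simp
        simp [h, mul_sum, Prod.ext_iff, funext_iff] }
  have hbr : ∀ (z : LieAlgebra.SpecialLinear.sl (Fin (n + 1)) O) (a b : ℕ), a ≤ n → b ≤ n →
      Yof (⁅x, z⁆).1 a b = (if a + 1 < n then Yof z.1 (a + 1) b else 0) - (if 1 ≤ b ∧ b < n then Yof z.1 a (b - 1) else 0) := by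
    intro z a b ha hb
    rw [show (Yof (⁅x, z⁆).1 a b : O) = (x.1 * z.1 - z.1 * x.1) ⟨a, by omega⟩ ⟨b, by omega⟩ from dif_pos ⟨by omega, by omega⟩]
    rw [Matrix.sub_apply, Matrix.mul_apply, Matrix.mul_apply]
    congr 1
    · simp only [hx, ite_mul, one_mul, zero_mul]
      split_ifs with h
      · refine (Finset.sum_eq_single (⟨a + 1, by omega⟩ : Fin (n + 1)) (fun l _ hl => if_neg (fun h' => hl (Fin.ext h'.1))) (by simp)).trans ?_
        dsimp only
        rw [if_pos]
        · unfold Yof; rw [dif_pos]; constructor <;> omega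
        · exact ⟨rfl, h⟩
      · exact Finset.sum_eq_zero fun l _ => if_neg (by omega)
    · simp only [hx, mul_ite, mul_one, mul_zero]
      split_ifs with h
      · refine (Finset.sum_eq_single (⟨b - 1, by omega⟩ : Fin (n + 1)) (fun l _ hl => if_neg (fun h' => hl (Fin.ext (show l.val = b - 1 by have := h'.1; omega)))) (by simp)).trans ?_
        dsimp only
        rw [if_pos]
        · unfold Yof; rw [dif_pos]; constructor <;> omega
        · exact ⟨by omega, h.2⟩
      · exact Finset.sum_eq_zero fun l _ => if_neg (by omega)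
  have htr : ∀ y : LieAlgebra.SpecialLinear.sl (Fin (n + 1)) O, ∑ i ∈ range (n + 1), Yof y.1 i i = 0 := by
    intro y
    rw [← Fin.sum_univ_eq_sum_range (fun i => Yof y.1 i i) (n + 1)]
    simp only [Yof_val]
    exact y.2
  have hsurj : Function.Surjective Φ := by
    rintro ⟨c, a, b⟩
    let M : Matrix (Fin (n + 1)) (Fin (n + 1)) O := Matrix.of fun i j =>
      if h : i.val < n ∧ j.val = 0 then c ⟨i, h.1⟩
      else if i.val = n ∧ j.val = n then -c ⟨0, hn⟩
      else if i.val = n ∧ j.val = 0 then a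
      else if i.val = n - 1 ∧ j.val = n then b else 0
    have hM : M.trace = 0 := by
      rw [Matrix.trace, Fin.sum_univ_castSucc]
      rw [Finset.sum_eq_single (⟨0, hn⟩ : Fin n) (fun l _ hl => by
        have : l.val ≠ 0 := fun h => hl (Fin.ext h)
        have hl' := l.2
        simp only [Matrix.diag_apply, M, Matrix.of_apply, Fin.val_castSucc]
        rw [dif_neg (by omega), if_neg (by omega), if_neg (by omega), if_neg (by omega)]) (by simp)]
      simp [M, show 0 < n by omega]
    refine ⟨⟨M, hM⟩, ?_⟩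
    refine Prod.ext (funext fun m => ?_) (Prod.ext ?_ ?_)
    · show ∑ i ∈ range (n - m), Yof M (i + m) i = c m
      have := m.2
      rw [Finset.sum_eq_single 0 (fun l hl h0 => by
        have := mem_range.mp hl
        simp [Yof, M]; intros; split_ifs <;> first | omega | rfl) (fun h => absurd (mem_range.mpr (by omega)) h)]
      simp [Yof, M, this, show (m : ℕ) < n + 1 by omega]
    · simp [Φ, Yof, M]
      intros; omega
    · simp [Φ, Yof, M]
      split_ifs <;> first | omega | rfl
  have hker : LinearMap.range (LieAlgebra.ad O (LieAlgebra.SpecialLinear.sl (Fin (n + 1)) O) x) = LinearMap.ker Φ := by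
    apply le_antisymm
    · rintro _ ⟨z, rfl⟩
      rw [LinearMap.mem_ker, LieAlgebra.ad_apply]
      refine Prod.ext (funext fun m => ?_) (Prod.ext ?_ ?_)
      · show ∑ i ∈ range (n - m), Yof (⁅x, z⁆).1 (i + m) i = 0
        have := m.2
        rw [Finset.sum_congr rfl (fun i hi => hbr z (i + m) i (by have := mem_range.mp hi; omega) (by have := mem_range.mp hi; omega)), sum_sub_distrib]
        obtain ⟨q, hq⟩ : ∃ q, n - m = q + 1 := ⟨n - m - 1, by omega⟩
        rw [hq, sum_range_succ, sum_range_succ', if_neg (by omega), if_neg (by omega), add_zero, add_zero]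
        rw [sub_eq_zero]
        refine Finset.sum_congr rfl fun i hi => ?_
        have := mem_range.mp hi
        rw [if_pos (by omega), if_pos (by omega)]
        congr 1 <;> omega
      · show Yof (⁅x, z⁆).1 n 0 = 0
        rw [hbr z n 0 le_rfl (by omega), if_neg (by omega), if_neg (by omega), sub_zero]
      · show Yof (⁅x, z⁆).1 (n - 1) n = 0
        rw [hbr z (n - 1) n (by omega) le_rfl, if_neg (by omega), if_neg (by omega), sub_zero]
    · intro y hy
      have h := LinearMap.mem_ker.mp hy
      simp only [Φ, LinearMap.coe_mk, AddHom.coe_mk, Prod.ext_iff, funext_iff, Prod.fst_zero, Prod.snd_zero, Pi.zero_apply] at h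
      obtain ⟨hT, ha, hb⟩ := h
      have hc : Yof y.1 n n = 0 := by
        have h1 := htr y
        have h2 := hT ⟨0, hn⟩
        rw [sum_range_succ] at h1
        simp at h2
        rwa [h2, zero_add] at h1
      let z : Matrix (Fin (n + 1)) (Fin (n + 1)) O := Matrix.of fun i j => Z n (Yof y.1) i j
      have hz : z.trace = 0 := by
        rw [Matrix.trace]
        exact (Fin.sum_univ_eq_sum_range (fun i => Z n (Yof y.1) i i) (n + 1)).trans (trace_Z n _)
      refine ⟨⟨z, hz⟩, Subtype.ext (Matrix.ext fun i j => ?_)⟩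
      have hY : ∀ a b, a ≤ n → b ≤ n → Yof z a b = Z n (Yof y.1) a b := fun a b p q => dif_pos ⟨by omega, by omega⟩
      rw [LieAlgebra.ad_apply, ← Yof_val (⁅x, _⁆ : LieAlgebra.SpecialLinear.sl (Fin (n + 1)) O).1 i j,
        hbr _ _ _ (by omega) (by omega), ← Yof_val y.1 i j,
        ← Z_spec n hn (Yof y.1) (fun m hm => hT ⟨m, hm⟩) ha hb hc i j (by omega) (by omega)]
      congr 1
      · split_ifs with h
        · exact hY _ _ (by omega) (by omega)
        · rfl
      · split_ifs with h
        · exact hY _ _ (by omega) (by omega)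
        · rfl
  rw [hker]
  let e := Φ.quotKerEquivOfSurjective hsurj
  refine ⟨Module.Free.of_equiv e.symm, ?_⟩
  rw [e.finrank_eq, Module.finrank_prod, Module.finrank_prod, Module.finrank_fin_fun, Module.finrank_self]

end Groth.Agent.Subreg8
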